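import Cfsg.Agent.Lib.AIC.Basic
import Cfsg.Agent.Lib.Blk.ZStar

/-!
# General counting and dihedral lemmas
-/

set_option autoImplicit false

namespace Cfsg.Agent.Bd

open MulAction Cfsg.Agent.AIC

section count

variable {α : Type*}

theorem ncard_eq_blocks {X : Set α} (hX : X.Finite) (B : α → Set α) {k : ℕ}
    (h1 : ∀ w ∈ X, w ∈ B w) (h2 : ∀ w ∈ X, B w ⊆ X) (h3 : ∀ w ∈ X, (B w).ncard = k)
    (h4 : ∀ w ∈ X, ∀ w' ∈ B w, B w' = B w) : X.ncard = (B '' X).ncard * k := by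
  classical
  have e : X.ncard = hX.toFinset.card := Set.ncard_eq_toFinset_card X hX
  rw [e, Finset.card_eq_sum_card_image B hX.toFinset]
  have e2 : (B '' X).ncard = (hX.toFinset.image B).card := by
    rw [← Set.ncard_coe_finset]; congr 1; simp
  rw [e2, Finset.sum_const_nat]
  intro b hb
  obtain ⟨w, hw, rfl⟩ := Finset.mem_image.1 hb
  have hw' : w ∈ X := by simpa using hw
  rw [← h3 w hw', ← Set.ncard_coe_finset]
  congr 1
  ext y
  simp only [Finset.coe_filter, Set.Finite.mem_toFinset, Set.mem_ofPred_eq]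
  exact ⟨fun h => h.2 ▸ h1 y h.1, fun h => ⟨h2 w hw' h, h4 w hw' y h⟩⟩

theorem dvd_ncard_of_blocks {X : Set α} (hX : X.Finite) (B : α → Set α) {k : ℕ}
    (h1 : ∀ w ∈ X, w ∈ B w) (h2 : ∀ w ∈ X, B w ⊆ X) (h3 : ∀ w ∈ X, (B w).ncard = k)
    (h4 : ∀ w ∈ X, ∀ w' ∈ B w, B w' = B w) : k ∣ X.ncard :=
  ⟨_, by rw [ncard_eq_blocks hX B h1 h2 h3 h4, mul_comm]⟩

/-- counting through fibres of constant size -/
theorem ncard_eq_fibers {β : Type*} {X : Set α} (hX : X.Finite) {Y : Set β} (f : α → β) {k : ℕ}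
    (h1 : ∀ x ∈ X, f x ∈ Y) (h2 : ∀ y ∈ Y, {x ∈ X | f x = y}.ncard = k) (hY : Y.Finite) :
    X.ncard = Y.ncard * k := by
  classical
  rw [Set.ncard_eq_toFinset_card X hX, Set.ncard_eq_toFinset_card Y hY,
    Finset.card_eq_sum_card_fiberwise (f := f) (t := hY.toFinset) (by
      intro x hx; simpa using h1 x (by simpa using hx)), Finset.sum_const_nat]
  intro y hy
  rw [← h2 y (by simpa using hy), ← Set.ncard_coe_finset]
  congr 1
  ext x
  simp

theorem ncard_le_fibers {β : Type*} {X : Set α} (hX : X.Finite) {Y : Set β} (f : α → β) {k : ℕ}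
    (h1 : ∀ x ∈ X, f x ∈ Y) (h2 : ∀ y ∈ Y, {x ∈ X | f x = y}.ncard ≤ k) (hY : Y.Finite) :
    X.ncard ≤ Y.ncard * k := by
  classical
  rw [Set.ncard_eq_toFinset_card X hX, Set.ncard_eq_toFinset_card Y hY,
    Finset.card_eq_sum_card_fiberwise (f := f) (t := hY.toFinset) (by
      intro x hx; simpa using h1 x (by simpa using hx)), ← smul_eq_mul]
  refine Finset.sum_le_card_nsmul _ _ _ fun y hy => ?_
  refine le_trans (le_of_eq ?_) (h2 y (by simpa using hy))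
  rw [← Set.ncard_coe_finset]
  congr 1
  ext x
  simp

/-- double counting of a relation -/
theorem double_count {β : Type*} {X : Set α} (hX : X.Finite) {Y : Set β} (hY : Y.Finite)
    (r : α → β → Prop) {k l : ℕ} (h1 : ∀ x ∈ X, {y ∈ Y | r x y}.ncard = k)
    (h2 : ∀ y ∈ Y, {x ∈ X | r x y}.ncard = l) : X.ncard * k = Y.ncard * l := by
  have hf : {p : α × β | p.1 ∈ X ∧ p.2 ∈ Y ∧ r p.1 p.2}.Finite :=
    (hX.prod hY).subset fun p hp => ⟨hp.1, hp.2.1⟩
  refine (ncard_eq_fibers hf Prod.fst (fun p hp => hp.1) (fun x hx => ?_) hX).symm.trans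
    (ncard_eq_fibers hf Prod.snd (fun p hp => hp.2.1) (fun y hy => ?_) hY)
  · rw [← h1 x hx, ← Set.ncard_image_of_injective {y ∈ Y | r x y} (f := fun y => (x, y))
      (fun a b h => (Prod.mk.inj h).2)]
    congr 1
    ext ⟨a, b⟩
    simp only [Set.mem_ofPred_eq, Set.mem_image, Prod.mk.injEq]
    constructor
    · rintro ⟨⟨h1, h2, h3⟩, rfl⟩; exact ⟨b, ⟨h2, h3⟩, rfl, rfl⟩
    · rintro ⟨a', ⟨h1, h3⟩, rfl, rfl⟩; exact ⟨⟨hx, h1, h3⟩, rfl⟩
  · rw [← h2 y hy, ← Set.ncard_image_of_injective {x ∈ X | r x y} (f := fun x => (x, y))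
      (fun a b h => (Prod.mk.inj h).1)]
    congr 1
    ext ⟨a, b⟩
    simp only [Set.mem_ofPred_eq, Set.mem_image, Prod.mk.injEq]
    constructor
    · rintro ⟨⟨h1, h2, h3⟩, rfl⟩; exact ⟨a, ⟨h1, h3⟩, rfl, rfl⟩
    · rintro ⟨a', ⟨h1, h3⟩, rfl, rfl⟩; exact ⟨⟨h1, hy, h3⟩, rfl⟩

end count

variable {G : Type*} [Group G]

theorem ncard_sub (H : Subgroup G) : (H : Set G).ncard = Nat.card H := rfl

section act

variable {Ω : Type*} [MulAction G Ω]

theorem ncard_orb {H : Subgroup G} {x : Ω} (h : ∀ g ∈ H, g • x = x → g = 1) :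
    ((fun g : G => g • x) '' H).ncard = Nat.card H := by
  rw [← ncard_sub]
  refine Set.InjOn.ncard_image fun a ha b hb e => ?_
  have := h (b⁻¹ * a) (H.mul_mem (H.inv_mem hb) ha) (by
    rw [mul_smul, inv_smul_eq_iff]; exact e)
  exact (inv_mul_eq_one.1 this).symm

theorem card_dvd_of_semireg {H : Subgroup G} {X : Set Ω} (hX : X.Finite)
    (h1 : ∀ g ∈ H, ∀ x ∈ X, g • x ∈ X) (h2 : ∀ g ∈ H, ∀ x ∈ X, g • x = x → g = 1) :
    Nat.card H ∣ X.ncard := by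
  refine dvd_ncard_of_blocks hX (fun x => (fun g : G => g • x) '' H)
    (fun w _ => ⟨1, H.one_mem, one_smul _ _⟩) ?_ (fun w hw => ncard_orb fun g hg => h2 g hg w hw) ?_
  · rintro w hw _ ⟨g, hg, rfl⟩; exact h1 g hg w hw
  · rintro w _ _ ⟨g, hg, rfl⟩
    ext y
    constructor
    · rintro ⟨a, ha, rfl⟩; exact ⟨a * g, H.mul_mem ha hg, mul_smul _ _ _⟩
    · rintro ⟨a, ha, rfl⟩
      exact ⟨a * g⁻¹, H.mul_mem ha (H.inv_mem hg), by simp [mul_smul]⟩

theorem card_le_of_semireg {H : Subgroup G} {X : Set Ω} (hX : X.Finite) {x : Ω}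
    (h1 : ∀ g ∈ H, g • x ∈ X) (h2 : ∀ g ∈ H, g • x = x → g = 1) : Nat.card H ≤ X.ncard := by
  rw [← ncard_orb h2]
  refine Set.ncard_le_ncard ?_ hX
  rintro _ ⟨g, hg, rfl⟩; exact h1 g hg

/-- orbit-stabilizer for a subgroup -/
theorem card_eq_orb_mul (H : Subgroup G) (x : Ω) [Finite G] :
    Nat.card H = ((fun g : G => g • x) '' H).ncard * Nat.card ↥(H ⊓ stabilizer G x) := by
  rw [← ncard_sub H]
  refine ncard_eq_fibers (Set.toFinite _) (fun g : G => g • x) (fun g hg => ⟨g, hg, rfl⟩) ?_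
    (Set.toFinite _)
  rintro _ ⟨g, hg, rfl⟩
  rw [← ncard_sub, ← Set.ncard_image_of_injective (H ⊓ stabilizer G x : Subgroup G)
    (mul_right_injective g)]
  congr 1
  ext a
  simp only [Set.mem_ofPred_eq, Set.mem_image, SetLike.mem_coe, Subgroup.mem_inf,
    mem_stabilizer_iff]
  constructor
  · rintro ⟨h1, h2⟩
    exact ⟨g⁻¹ * a, ⟨H.mul_mem (H.inv_mem hg) h1, by rw [mul_smul, h2, inv_smul_smul]⟩, by simp⟩
  · rintro ⟨b, ⟨h1, h2⟩, rfl⟩
    exact ⟨H.mul_mem hg h1, by rw [mul_smul, h2]⟩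

/-- the action of a subgroup on an invariant subset -/
@[reducible] def subAct (C : Subgroup G) (X : Set Ω) (h : ∀ g ∈ C, ∀ p ∈ X, g • p ∈ X) :
    MulAction C X where
  smul g p := ⟨g.1 • p.1, h _ g.2 _ p.2⟩
  one_smul p := Subtype.ext (one_smul G p.1)
  mul_smul a b p := Subtype.ext (mul_smul a.1 b.1 p.1)

theorem ncard_modEq {p : ℕ} [Fact p.Prime] {P : Subgroup G} (hP : IsPGroup p P) {X : Set Ω}
    (hX : X.Finite) (h : ∀ g ∈ P, ∀ x ∈ X, g • x ∈ X) :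
    X.ncard ≡ {x ∈ X | ∀ g ∈ P, g • x = x}.ncard [MOD p] := by
  let := subAct P X h
  have : Finite X := hX
  have := hP.card_modEq_card_fixedPoints X
  rw [← Nat.card_coe_set_eq]
  convert this using 1
  rw [← Nat.card_coe_set_eq]
  refine Nat.card_congr ⟨fun x => ⟨⟨x.1, x.2.1⟩, fun g => Subtype.ext (x.2.2 g.1 g.2)⟩,
    fun x => ⟨x.1.1, x.1.2, fun g hg => congrArg Subtype.val (x.2 ⟨g, hg⟩)⟩, fun _ => rfl,
    fun _ => rfl⟩

theorem exists_fixed {p : ℕ} [Fact p.Prime] {P : Subgroup G} (hP : IsPGroup p P) {X : Set Ω}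
    (hX : X.Finite) (h : ∀ g ∈ P, ∀ x ∈ X, g • x ∈ X) (hp : ¬ p ∣ X.ncard) :
    ∃ x ∈ X, ∀ g ∈ P, g • x = x := by
  by_contra hne
  have h1 := ncard_modEq hP hX h
  have : {x ∈ X | ∀ g ∈ P, g • x = x} = ∅ := by
    ext x; simp only [Set.mem_ofPred_eq, Set.mem_empty_iff_false, iff_false]
    exact fun hx => hne ⟨x, hx.1, hx.2⟩
  rw [this, Set.ncard_empty] at h1
  exact hp ((Nat.modEq_zero_iff_dvd).1 h1)

theorem isPGroup_zpowers {p : ℕ} [Fact p.Prime] {g : G} {k : ℕ} (h : g ^ p ^ k = 1) :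
    IsPGroup p (Subgroup.zpowers g) := by
  rintro ⟨_, n, rfl⟩
  refine ⟨k, Subtype.ext ?_⟩
  change (g ^ n) ^ p ^ k = 1
  rw [← zpow_natCast, ← zpow_mul, mul_comm, zpow_mul, zpow_natCast, h, one_zpow]

theorem zpowers_inv {g : G} {X : Set Ω} (hX : X.Finite) (h : ∀ x ∈ X, g • x ∈ X) :
    ∀ a ∈ Subgroup.zpowers g, ∀ x ∈ X, a • x ∈ X := by
  have hb : Set.BijOn (fun x => g • x) X X :=
    (hX.injOn_iff_bijOn_of_mapsTo h).1 (MulAction.injective g).injOn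
  have h' : ∀ x ∈ X, g⁻¹ • x ∈ X := fun x hx => by
    obtain ⟨y, hy, e⟩ := hb.surjOn hx
    rw [← e]; simpa using hy
  rintro _ ⟨n, rfl⟩
  induction n using Int.induction_on with
  | zero => simp
  | succ n ih => intro x hx; simp only [zpow_add_one, mul_smul] at *; exact ih _ (h x hx)
  | pred n ih => intro x hx; simp only [zpow_sub_one, mul_smul] at *; exact ih _ (h' x hx)

theorem ncard_modEq_elt {p : ℕ} [Fact p.Prime] {g : G} {k : ℕ} (hg : g ^ p ^ k = 1) {X : Set Ω}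
    (hX : X.Finite) (h : ∀ x ∈ X, g • x ∈ X) :
    X.ncard ≡ {x ∈ X | g • x = x}.ncard [MOD p] := by
  have := ncard_modEq (isPGroup_zpowers hg) hX (zpowers_inv hX h)
  convert this using 2
  ext x
  simp only [Set.mem_ofPred_eq, and_congr_right_iff]
  refine fun _ => ⟨fun e a ha => ?_, fun e => e g (Subgroup.mem_zpowers g)⟩
  exact (Subgroup.zpowers_le.2 (show g ∈ stabilizer G x from e)) ha

theorem exists_fixed_elt {p : ℕ} [Fact p.Prime] {g : G} {k : ℕ} (hg : g ^ p ^ k = 1) {X : Set Ω}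
    (hX : X.Finite) (h : ∀ x ∈ X, g • x ∈ X) (hp : ¬ p ∣ X.ncard) : ∃ x ∈ X, g • x = x := by
  obtain ⟨x, hx, h2⟩ := exists_fixed (isPGroup_zpowers hg) hX (zpowers_inv hX h) hp
  exact ⟨x, hx, h2 g (Subgroup.mem_zpowers g)⟩

end act

/-- conjugation action -/
@[reducible] def cjAct (G : Type*) [Group G] : MulAction G G where
  smul g x := g * x * g⁻¹
  one_smul x := by change 1 * x * 1⁻¹ = x; simp
  mul_smul a b x := by change a * b * x * (a * b)⁻¹ = a * (b * x * b⁻¹) * a⁻¹; group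

theorem exists_fixed_cj {p : ℕ} [Fact p.Prime] {P : Subgroup G} (hP : IsPGroup p P) {X : Set G}
    (hX : X.Finite) (h : ∀ g ∈ P, ∀ x ∈ X, g * x * g⁻¹ ∈ X) (hp : ¬ p ∣ X.ncard) :
    ∃ x ∈ X, ∀ g ∈ P, Commute g x := by
  obtain ⟨x, hx, h2⟩ := @exists_fixed G _ G (cjAct G) p _ P hP X hX h hp
  exact ⟨x, hx, fun g hg => commute_of_conj_eq (h2 g hg)⟩

theorem exists_fixed_cj_elt {p : ℕ} [Fact p.Prime] {g : G} {k : ℕ} (hg : g ^ p ^ k = 1)
    {X : Set G} (hX : X.Finite) (h : ∀ x ∈ X, g * x * g⁻¹ ∈ X) (hp : ¬ p ∣ X.ncard) :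
    ∃ x ∈ X, Commute g x := by
  obtain ⟨x, hx, h2⟩ := @exists_fixed_elt G _ G (cjAct G) p _ g k hg X hX h hp
  exact ⟨x, hx, commute_of_conj_eq h2⟩

theorem card_dvd_of_semireg_cj {H : Subgroup G} {X : Set G} (hX : X.Finite)
    (h1 : ∀ g ∈ H, ∀ x ∈ X, g * x * g⁻¹ ∈ X) (h2 : ∀ g ∈ H, ∀ x ∈ X, Commute g x → g = 1) :
    Nat.card H ∣ X.ncard :=
  @card_dvd_of_semireg G _ G (cjAct G) H X hX h1 fun g hg x hx e =>
    h2 g hg x hx (commute_of_conj_eq e)

theorem card_eq_cls_mul [Finite G] (H : Subgroup G) (x : G) :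
    Nat.card H = ((fun g : G => g * x * g⁻¹) '' H).ncard *
      Nat.card ↥(H ⊓ Subgroup.centralizer {x}) := by
  have := @card_eq_orb_mul G _ G (cjAct G) H x _
  have e : Subgroup.centralizer {x} = @stabilizer G G _ (cjAct G) x := by
    ext g
    rw [mem_T]
    exact ⟨conj_eq_of_commute, commute_of_conj_eq⟩
  rw [e]; exact this

/-- conjugation action on subsets -/
@[reducible] def cjSet (G : Type*) [Group G] : MulAction G (Set G) where
  smul g X := (fun x => g * x * g⁻¹) '' X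
  one_smul X := by change (fun x => 1 * x * 1⁻¹) '' X = X; simp
  mul_smul a b X := by
    change (fun x => a * b * x * (a * b)⁻¹) '' X =
      (fun x => a * x * a⁻¹) '' ((fun x => b * x * b⁻¹) '' X)
    rw [Set.image_image]; congr 1; ext x; group

theorem exists_sylow [Finite G] (p : ℕ) [Fact p.Prime] (A : Subgroup G) :
    ∃ P : Subgroup G, P ≤ A ∧ Nat.card P = p ^ (Nat.card A).factorization p := by
  obtain ⟨S⟩ : Nonempty (Sylow p A) := inferInstance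
  refine ⟨(S : Subgroup A).map A.subtype, Subgroup.map_subtype_le _, ?_⟩
  rw [Subgroup.card_map_of_injective A.subtype_injective, S.card_eq_multiplicity]

theorem sylow_conj [Finite G] (p : ℕ) [Fact p.Prime] {A P P' : Subgroup G} (h : P ≤ A)
    (h' : P' ≤ A) (e : Nat.card P = p ^ (Nat.card A).factorization p)
    (e' : Nat.card P' = p ^ (Nat.card A).factorization p) :
    ∃ k ∈ A, ∀ g ∈ P, k * g * k⁻¹ ∈ P' := by
  let S : Sylow p A := Sylow.ofCard (P.subgroupOf A) (by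
    rw [Nat.card_congr (Subgroup.subgroupOfEquivOfLe h).toEquiv, e])
  let S' : Sylow p A := Sylow.ofCard (P'.subgroupOf A) (by
    rw [Nat.card_congr (Subgroup.subgroupOfEquivOfLe h').toEquiv, e'])
  obtain ⟨k, hk⟩ := exists_smul_eq A S S'
  refine ⟨k, k.2, fun g hg => ?_⟩
  have : MulAut.conj k • (⟨g, h hg⟩ : A) ∈ ((k • S : Sylow p A) : Subgroup A) :=
    Subgroup.smul_mem_pointwise_smul (⟨g, h hg⟩ : A) (MulAut.conj k) (S : Subgroup A) hg
  rw [hk] at this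
  exact this

/-! ### dihedral groups -/

theorem mul_pow_eq_conj {a c : G} (ha : a * a = 1) (hc : c * c = 1) (j : ℕ) :
    ∃ i : ℕ, a * (a * c) ^ j = ((a * c) ^ i)⁻¹ * a * (a * c) ^ i ∨
      a * (a * c) ^ j = ((a * c) ^ i)⁻¹ * c * (a * c) ^ i := by
  have e : ∀ i : ℕ, a * (a * c) ^ i = ((a * c) ^ i)⁻¹ * a := fun i => by
    have e1 : c⁻¹ = c := inv_eq_of_mul_eq_one_right hc
    have e2 : a⁻¹ = a := inv_eq_of_mul_eq_one_right ha
    have : a * (a * c) * a⁻¹ = (a * c)⁻¹ := by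
      rw [mul_inv_rev, e1, e2, ← mul_assoc, ha, one_mul]
    rw [← inv_pow, ← this, conj_pow]; group
  rcases Nat.even_or_odd' j with ⟨i, rfl | rfl⟩
  · exact ⟨i, Or.inl (by rw [two_mul, pow_add, ← mul_assoc, e])⟩
  · refine ⟨i, Or.inr ?_⟩
    rw [show 2 * i + 1 = i + (1 + i) by ring, pow_add, ← mul_assoc, e, pow_add, pow_one]
    simp only [mul_assoc]
    rw [← mul_assoc a a, ha, one_mul]

theorem dih_even [Finite G] {a c : G} (ha : a * a = 1) (hc : c * c = 1)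
    (h : ¬ Odd (orderOf (a * c))) : ∃ j : ℕ, IsInv ((a * c) ^ j) ∧ Commute a ((a * c) ^ j) ∧
      Commute c ((a * c) ^ j) := by
  rw [Nat.not_odd_iff_even] at h
  obtain ⟨j, hj⟩ := h
  have hpos := orderOf_pos (a * c)
  have h1 : (a * c) ^ j * (a * c) ^ j = 1 := by rw [← pow_add, ← hj, pow_orderOf_eq_one]
  have h2 : Commute c ((a * c) ^ j) := by
    have := Blk.inv_conj_pow ha hc j
    rw [inv_eq_of_mul_eq_one_right h1] at this
    exact this
  refine ⟨j, ⟨pow_ne_one_of_lt_orderOf (by omega) (by omega), h1⟩, ?_, h2⟩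
  have h3 : Commute (a * c) ((a * c) ^ j) := Commute.self_pow _ _
  have := h3.mul_left h2
  rwa [mul_assoc, hc, mul_one] at this

theorem dih_odd [Finite G] {a c : G} (ha : a * a = 1) (hc : c * c = 1)
    (h : Odd (orderOf (a * c))) : ∃ k : ℕ, (a * c) ^ k * c * ((a * c) ^ k)⁻¹ = a :=
  Blk.dihedral_conj ha hc (by
    rw [Blk.Reg, ← even_iff_two_dvd, Nat.not_even_iff_odd]; exact h)

theorem eq_one_of_odd {g : G} (h : Odd (orderOf g)) (h2 : g * g = 1) : g = 1 := by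
  obtain ⟨k, hk⟩ := eq_sq_pow_of_odd h
  rw [← hk, h2, one_pow]

theorem eq_one_of_odd_pow {g : G} (h : Odd (orderOf g)) {k : ℕ} (h2 : g ^ 2 ^ k = 1) : g = 1 := by
  have h1 := orderOf_dvd_of_pow_eq_one h2
  have : (orderOf g).Coprime (2 ^ k) := Nat.Coprime.pow_right _ (Nat.coprime_two_right.2 h)
  exact orderOf_eq_one_iff.1 (Nat.Coprime.eq_one_of_dvd this h1)

section SE

variable {Ω : Type*} [MulAction G Ω] [Finite G]

/-- The configuration of a strongly embedded class acting on a set `X`. -/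
structure SE (X : Set Ω) (C : Subgroup G) (T : Ω → Set G) : Prop where
  inv : ∀ g ∈ C, ∀ p ∈ X, g • p ∈ X
  mem : ∀ x ∈ X, ∀ a ∈ T x, a ∈ C
  fix : ∀ x ∈ X, ∀ a ∈ T x, a • x = x
  sq : ∀ x ∈ X, ∀ a ∈ T x, ∀ p ∈ X, (a * a) • p = p
  uniq : ∀ x ∈ X, ∀ a ∈ T x, ∀ p ∈ X, a • p = p → p = x
  conj : ∀ g ∈ C, ∀ x ∈ X, ∀ a ∈ T x, g * a * g⁻¹ ∈ T (g • x)
  prod : ∀ x ∈ X, ∀ a ∈ T x, ∀ b ∈ T x, (∀ p ∈ X, (a * b) • p = (b * a) • p) →
    ∀ y ∈ X, y ≠ x → (a * b) • y = y → ∀ p ∈ X, (a * b) • p = p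

theorem SE.swap {X : Set Ω} {C : Subgroup G} {T : Ω → Set G} (h : SE X C T) {x y : Ω}
    (hx : x ∈ X) (hy : y ∈ X) (hxy : x ≠ y) {a c : G} (ha : a ∈ T x) (hc : c ∈ T y) :
    (∃ m, Odd m ∧ ∀ p ∈ X, (a * c) ^ m • p = p) ∧
    ∃ w ∈ X, ∃ s ∈ T w, s • x = y ∧ s • y = x ∧ ∀ p ∈ X, (s * c * s⁻¹) • p = a • p := by
  let := subAct C X h.inv
  let π : C →* Equiv.Perm X := MulAction.toPermHom C X
  have hπ : ∀ g k : C, π g = π k ↔ ∀ p ∈ X, g.1 • p = k.1 • p := fun g k =>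
    ⟨fun e p hp => congrArg Subtype.val (congrArg (fun f : Equiv.Perm X => f ⟨p, hp⟩) e),
      fun e => Equiv.ext fun p => Subtype.ext (e p.1 p.2)⟩
  set a' : C := ⟨a, h.mem x hx a ha⟩
  set c' : C := ⟨c, h.mem y hy c hc⟩
  have ha2 : π a' * π a' = 1 := by
    rw [← map_mul, ← map_one π, hπ]; intro p hp; simpa using h.sq x hx a ha p hp
  have hc2 : π c' * π c' = 1 := by
    rw [← map_mul, ← map_one π, hπ]; intro p hp; simpa using h.sq y hy c hc p hp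
  have : Finite π.range := Finite.of_surjective _ π.rangeRestrict_surjective
  let ρ := π.rangeRestrict
  have hρ : ∀ g k : C, ρ g = ρ k ↔ ∀ p ∈ X, g.1 • p = k.1 • p := fun g k => by
    rw [← hπ]; exact Subtype.ext_iff
  have ha3 : ρ a' * ρ a' = 1 := Subtype.ext ha2
  have hc3 : ρ c' * ρ c' = 1 := Subtype.ext hc2
  have key : ∀ j : ℕ, ∃ w ∈ X, ∃ s : C, s.1 ∈ T w ∧ ρ s = ρ a' * (ρ a' * ρ c') ^ j := fun j => by
    obtain ⟨i, hi | hi⟩ := mul_pow_eq_conj ha3 hc3 j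
    · refine ⟨_, h.inv _ (((a' * c') ^ i)⁻¹).2 x hx, ((a' * c') ^ i)⁻¹ * a' * (a' * c') ^ i, ?_, ?_⟩
      · simpa using h.conj _ (((a' * c') ^ i)⁻¹).2 x hx a ha
      · rw [hi]; simp
    · refine ⟨_, h.inv _ (((a' * c') ^ i)⁻¹).2 y hy, ((a' * c') ^ i)⁻¹ * c' * (a' * c') ^ i, ?_, ?_⟩
      · simpa using h.conj _ (((a' * c') ^ i)⁻¹).2 y hy c hc
      · rw [hi]; simp
  by_cases hodd : Odd (orderOf (ρ a' * ρ c'))
  · refine ⟨⟨_, hodd, ?_⟩, ?_⟩
    · have := pow_orderOf_eq_one (ρ a' * ρ c')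
      rw [← map_mul, ← map_pow, ← map_one ρ, hρ] at this
      intro p hp
      simpa using this p hp
    · obtain ⟨k, hk⟩ := dih_odd ha3 hc3 hodd
      obtain ⟨w, hw, s, hs, e⟩ := key k
      have e2 : ρ (s * c' * s⁻¹) = ρ a' := by
        rw [map_mul, map_mul, map_inv, e, mul_inv_rev, inv_eq_of_mul_eq_one_right ha3]
        calc _ = ρ a' * ((ρ a' * ρ c') ^ k * ρ c' * ((ρ a' * ρ c') ^ k)⁻¹) * ρ a' := by group
          _ = _ := by rw [hk, ha3, one_mul]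
      rw [hρ] at e2
      have e3 : s.1 • y = x := by
        refine (h.uniq _ (h.inv _ s.2 y hy) _ (h.conj _ s.2 y hy c hc) x hx ?_).symm
        rw [show s.1 * c * s.1⁻¹ = (s * c' * s⁻¹).1 from rfl, e2 x hx]
        exact h.fix x hx a ha
      refine ⟨w, hw, s.1, hs, ?_, e3, e2⟩
      rw [← e3, ← mul_smul]
      exact h.sq w hw _ hs y hy
  · exfalso
    obtain ⟨j, h1, h2, h3⟩ := dih_even ha3 hc3 hodd
    obtain ⟨w, hw, s, hs, e⟩ := key j
    set z : C := (a' * c') ^ j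
    have hz : ρ z = (ρ a' * ρ c') ^ j := by simp [z]
    rw [← hz] at h1 h2 h3 e
    have f1 : z.1 • x = x := by
      refine h.uniq x hx a ha _ (h.inv _ z.2 x hx) ?_
      have := (hρ (a' * z) (z * a')).1 (by rw [map_mul, map_mul]; exact h2) x hx
      simpa [mul_smul, h.fix x hx a ha, a'] using this
    have f2 : z.1 • y = y := by
      refine h.uniq y hy c hc _ (h.inv _ z.2 y hy) ?_
      have := (hρ (c' * z) (z * c')).1 (by rw [map_mul, map_mul]; exact h3) y hy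
      simpa [mul_smul, h.fix y hy c hc, c'] using this
    have f3 : x = w := by
      refine h.uniq w hw _ hs x hx ?_
      have := (hρ s (a' * z)).1 (by rw [map_mul]; exact e) x hx
      simpa [mul_smul, h.fix x hx a ha, a', f1] using this
    subst f3
    have f4 : ρ (a' * s) = ρ z := by rw [map_mul, e, ← mul_assoc, ha3, one_mul]
    have f6 : ρ (a' * s) = ρ (s * a') := by
      rw [f4, map_mul, e, h2.eq, mul_assoc, ha3, mul_one]
    have f5 := h.prod x hx a ha _ hs ((hρ _ _).1 f6) y hy hxy.symm (by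
      have := (hρ _ _).1 f4 y hy
      rw [f2] at this; exact this)
    apply h1.1
    rw [← f4, ← map_one ρ, hρ]
    intro p hp
    simpa using f5 p hp

/-- any two members of `T x` are conjugate (on `X`) by a product of two swaps -/
theorem SE.conj2 {X : Set Ω} {C : Subgroup G} {T : Ω → Set G} (h : SE X C T) {x y : Ω}
    (hx : x ∈ X) (hy : y ∈ X) (hxy : x ≠ y) {a a' c : G} (ha : a ∈ T x) (ha' : a' ∈ T x)
    (hc : c ∈ T y) : ∃ w ∈ X, ∃ s ∈ T w, ∃ w' ∈ X, ∃ s' ∈ T w', s • x = y ∧ s • y = x ∧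
      s' • x = y ∧ s' • y = x ∧ ∀ p ∈ X, (s' * s * a * (s' * s)⁻¹) • p = a' • p := by
  obtain ⟨-, w, hw, s, hs, h1, h2, h3⟩ := h.swap hy hx hxy.symm hc ha
  obtain ⟨-, w', hw', s', hs', h1', h2', h3'⟩ := h.swap hx hy hxy ha' hc
  refine ⟨w, hw, s, hs, w', hw', s', hs', h2, h1, h1', h2', fun p hp => ?_⟩
  rw [← h3' p hp]
  have hp' : s'⁻¹ • p ∈ X := h.inv _ (C.inv_mem (h.mem w' hw' s' hs')) p hp
  have := h3 _ hp'
  simp only [mul_smul, mul_inv_rev] at this ⊢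
  rw [this]

end SE

end Cfsg.Agent.Bd
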